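import Mathlib

/-!
# Frobenius is nilpotent on `W(𝔞)` and lifting of Frobenius-compatible linear maps
-/

universe u v w z

namespace GrothLib.WittNil

section Nil

variable (p : ℕ) [hp : Fact p.Prime] {S : Type u} [CommRing S]

/-- The ideal containing the components of the Frobenius of a Witt vector with components in `I`. -/
def next (I : Ideal S) : Ideal S :=
  Ideal.span ((fun a => a ^ p) '' (I : Set S)) ⊔ Ideal.span {(p : S)} * I

theorem next_mono {I J : Ideal S} (h : I ≤ J) : next p I ≤ next p J :=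
  sup_le_sup (Ideal.span_mono (Set.image_mono h)) (Ideal.mul_mono_right h)

theorem iterate_next_mono (k : ℕ) {I J : Ideal S} (h : I ≤ J) :
    (next p)^[k] I ≤ (next p)^[k] J := by
  induction k with
  | zero => exact h
  | succ k ih => rw [Function.iterate_succ_apply', Function.iterate_succ_apply']; exact next_mono p ih

theorem iterate_next_le_self (k : ℕ) (I : Ideal S) : (next p)^[k] I ≤ I := by
  induction k with
  | zero => exact le_rfl
  | succ k ih =>
    rw [Function.iterate_succ_apply']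
    refine le_trans (sup_le ?_ (show _ * _ ≤ (next p)^[k] I from
      Ideal.mul_le.2 fun r _ s hs => Ideal.mul_mem_left _ r hs)) ih
    rw [Ideal.span_le]
    rintro _ ⟨a, ha, rfl⟩
    exact Ideal.pow_mem_of_mem _ ha p hp.out.pos

theorem next_p_mul_le (I : Ideal S) :
    next p (Ideal.span {(p : S)} * I) ≤ Ideal.span {(p : S)} * next p I := by
  refine sup_le ?_ (Ideal.mul_mono_right le_sup_right)
  rw [Ideal.span_le]
  rintro _ ⟨a, ha, rfl⟩
  obtain ⟨b, hb, rfl⟩ := Ideal.mem_span_singleton_mul.1 ha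
  show ((p : S) * b) ^ p ∈ _
  refine Ideal.mem_span_singleton_mul.2 ⟨(p : S) ^ (p - 1) * b ^ p, ?_, ?_⟩
  · exact Ideal.mul_mem_left _ _ (le_sup_left (α := Ideal S) (Ideal.subset_span ⟨b, hb, rfl⟩))
  · rw [← mul_assoc, ← pow_succ', Nat.sub_add_cancel hp.out.one_le, mul_pow]

theorem iterate_next_p_mul_le (k : ℕ) (I : Ideal S) :
    (next p)^[k] (Ideal.span {(p : S)} * I) ≤ Ideal.span {(p : S)} * (next p)^[k] I := by
  induction k with
  | zero => exact le_rfl
  | succ k ih =>
    rw [Function.iterate_succ_apply', Function.iterate_succ_apply']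
    exact (next_mono p ih).trans (next_p_mul_le p _)

theorem sum_pow_sub_mem (I : Ideal S) {x : S} (hx : x ∈ I) :
    ∀ k, (next p)^[k] I ≤ Ideal.span ((fun a => a ^ p ^ k) '' (I : Set S)) ⊔ Ideal.span {(p : S)} * I := by
  intro k
  induction k with
  | zero =>
    refine le_trans ?_ le_sup_left
    intro a ha
    exact Ideal.subset_span ⟨a, ha, by simp⟩
  | succ k ih =>
    rw [Function.iterate_succ_apply']
    refine sup_le ?_ ((Ideal.mul_mono_right (iterate_next_le_self p k I)).trans le_sup_right)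
    rw [Ideal.span_le]
    rintro _ ⟨a, ha, rfl⟩
    obtain ⟨b, hb, c, hc, rfl⟩ := Submodule.mem_sup.1 (ih ha)
    have hmem : ∀ b ∈ Ideal.span ((fun a => a ^ p ^ k) '' (I : Set S)),
        b ^ p ∈ Ideal.span ((fun a => a ^ p ^ (k + 1)) '' (I : Set S)) ⊔ Ideal.span {(p : S)} * I ∧
          b ∈ I := by
      intro b hb
      induction hb using Submodule.span_induction with
      | mem y hy =>
        obtain ⟨a, ha, rfl⟩ := hy
        exact ⟨le_sup_left (α := Ideal S) (Ideal.subset_span ⟨a, ha, by simp [pow_succ, pow_mul]⟩),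
          Ideal.pow_mem_of_mem _ ha _ (pow_pos hp.out.pos _)⟩
      | zero => exact ⟨by simp [zero_pow hp.out.ne_zero], Submodule.zero_mem _⟩
      | add y y' _ _ h h' =>
        refine ⟨?_, add_mem h.2 h'.2⟩
        obtain ⟨r, hr⟩ := exists_add_pow_prime_eq hp.out y y'
        rw [hr]
        refine add_mem (add_mem h.1 h'.1) (le_sup_right (α := Ideal S) ?_)
        rw [mul_assoc, mul_assoc]
        exact Ideal.mul_mem_mul (Ideal.mem_span_singleton_self _) (Ideal.mul_mem_right _ _ h.2)
      | smul r y _ h =>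
        refine ⟨?_, Ideal.mul_mem_left _ _ h.2⟩
        rw [smul_eq_mul, mul_pow]
        exact Ideal.mul_mem_left _ _ h.1
    show (b + c) ^ p ∈ _
    obtain ⟨r, hr⟩ := exists_add_pow_prime_eq hp.out b c
    rw [hr]
    refine add_mem (add_mem (hmem b hb).1 ?_) ?_
    · exact le_sup_right (α := Ideal S) (Ideal.pow_mem_of_mem _ hc p hp.out.pos)
    · refine le_sup_right (α := Ideal S) ?_
      rw [mul_assoc, mul_assoc]
      exact Ideal.mul_mem_mul (Ideal.mem_span_singleton_self _) (Ideal.mul_mem_right _ _ (hmem b hb).2)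

theorem coeff_frobenius_mem (I : Ideal S) (x : WittVector p S) (hx : ∀ i, x.coeff i ∈ I) (n : ℕ) :
    (WittVector.frobenius x).coeff n ∈ next p I := by
  rw [WittVector.coeff_frobenius, WittVector.frobeniusPoly, map_add, map_mul, map_pow,
    MvPolynomial.aeval_X, MvPolynomial.aeval_C, eq_intCast, Int.cast_natCast]
  refine add_mem (le_sup_left (α := Ideal S) (Ideal.subset_span ⟨_, hx n, rfl⟩))
    (le_sup_right (α := Ideal S) (Ideal.mul_mem_mul (Ideal.mem_span_singleton_self _) ?_))
  have h0 : MvPolynomial.aeval (fun _ : ℕ => (0 : ℤ)) (WittVector.frobeniusPolyAux p n) = 0 := by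
    have h : (WittVector.frobenius (0 : WittVector p ℤ)).coeff n = 0 := by simp
    rw [WittVector.coeff_frobenius, WittVector.frobeniusPoly, map_add, map_mul, map_pow,
      MvPolynomial.aeval_X, MvPolynomial.aeval_C] at h
    rw [show WittVector.coeff (0 : WittVector p ℤ) = fun _ => 0 from
      funext fun i => WittVector.zero_coeff p ℤ i] at h
    simpa [hp.out.ne_zero] using h
  rw [← Ideal.Quotient.eq_zero_iff_mem]
  have h1 : Ideal.Quotient.mk I (MvPolynomial.aeval x.coeff (WittVector.frobeniusPolyAux p n)) =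
      MvPolynomial.aeval (fun _ : ℕ => (0 : S ⧸ I)) (WittVector.frobeniusPolyAux p n) := by
    rw [MvPolynomial.map_aeval]
    show MvPolynomial.eval₂Hom _ _ _ = MvPolynomial.eval₂Hom _ _ _
    exact MvPolynomial.eval₂Hom_congr (RingHom.ext_int _ _)
      (funext fun i => Ideal.Quotient.eq_zero_iff_mem.2 (hx i)) rfl
  rw [h1, show (fun _ : ℕ => (0 : S ⧸ I)) = algebraMap ℤ (S ⧸ I) ∘ (fun _ : ℕ => (0 : ℤ)) from
    funext fun _ => (map_zero _).symm, MvPolynomial.aeval_algebraMap_apply, h0, map_zero]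

/-- A power of Frobenius kills `W(I)` when `p` is nilpotent and `I` is nil of bounded exponent. -/
theorem exists_frobenius_iterate_eq_zero (hpn : IsNilpotent (p : S)) (I : Ideal S) (N : ℕ)
    (hN : ∀ a ∈ I, a ^ N = 0) :
    ∃ K : ℕ, ∀ x : WittVector p S, (∀ i, x.coeff i ∈ I) →
      (⇑(WittVector.frobenius : WittVector p S →+* WittVector p S))^[K] x = 0 := by
  obtain ⟨m, hm⟩ := hpn
  have hstep : (next p)^[N] I ≤ Ideal.span {(p : S)} * I := by
    refine (sum_pow_sub_mem p I (Submodule.zero_mem I) N).trans (sup_le ?_ le_rfl)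
    rw [Ideal.span_le]
    rintro _ ⟨a, ha, rfl⟩
    show a ^ p ^ N ∈ _
    rw [pow_eq_zero_of_le (Nat.lt_pow_self hp.out.one_lt).le (hN a ha)]
    exact Submodule.zero_mem _
  have hpow : ∀ j : ℕ, (next p)^[N * j] I ≤ Ideal.span {(p : S)} ^ j * I := by
    intro j
    induction j with
    | zero => simp
    | succ j ih =>
      rw [mul_add, mul_one, Function.iterate_add_apply]
      refine (iterate_next_mono p _ hstep).trans ((iterate_next_p_mul_le p _ I).trans ?_)
      rw [pow_succ', mul_assoc]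
      exact Ideal.mul_mono_right ih
  have hcoeff : ∀ (k : ℕ) (x : WittVector p S), (∀ i, x.coeff i ∈ I) → ∀ i,
      ((⇑(WittVector.frobenius : WittVector p S →+* WittVector p S))^[k] x).coeff i ∈ (next p)^[k] I := by
    intro k x hx
    induction k with
    | zero => simpa using hx
    | succ k ih =>
      intro i
      rw [Function.iterate_succ_apply', Function.iterate_succ_apply']
      exact coeff_frobenius_mem p _ _ ih i
  refine ⟨N * m, fun x hx => ?_⟩
  ext i
  have := hpow m (hcoeff (N * m) x hx i)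
  rw [Ideal.span_singleton_pow, hm, Ideal.span_singleton_eq_bot.2 rfl, Submodule.bot_mul] at this
  simpa using this

end Nil

section Lift

variable {W : Type u} [CommRing W] {σ : W →+* W} {P₁ : Type v} [AddCommGroup P₁] [Module W P₁]
  {P₂ : Type w} [AddCommGroup P₂] [Module W P₂] {ι : Type z}

theorem exists_and_unique_lift (b : Module.Basis ι W P₁) (F₁ : P₁ →ₛₗ[σ] P₁) (F₂ : P₂ →ₛₗ[σ] P₂)
    (hli : LinearIndependent W (fun i => F₁ (b i)))
    (hsp : Submodule.span W (Set.range fun i => F₁ (b i)) = ⊤)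
    (𝔠 : Ideal W) (hσ : ∀ x ∈ 𝔠, σ x ∈ 𝔠) (K : ℕ) (hK : ∀ x ∈ 𝔠, σ^[K] x = 0)
    (α₀ : P₁ →ₗ[W] P₂) (hα₀ : ∀ x, F₂ (α₀ x) - α₀ (F₁ x) ∈ 𝔠 • (⊤ : Submodule W P₂)) :
    ∃! α : P₁ →ₗ[W] P₂, (∀ x, α x - α₀ x ∈ 𝔠 • (⊤ : Submodule W P₂)) ∧
      ∀ x, F₂ (α x) = α (F₁ x) := by
  let c := Module.Basis.mk hli hsp.ge
  let T : (P₁ →ₗ[W] P₂) → (P₁ →ₗ[W] P₂) := fun α => c.constr W fun i => F₂ (α (b i))
  have hT : ∀ α i, T α (F₁ (b i)) = F₂ (α (b i)) := fun α i => by
    have h := c.constr_basis W (fun j => F₂ (α (b j))) i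
    simp only [c, Module.Basis.mk_apply] at h
    exact h
  let J : ℕ → Ideal W := fun k => Ideal.span ((σ^[k]) '' (𝔠 : Set W))
  have hJ : ∀ k, J k ≤ 𝔠 := fun k => by
    refine Ideal.span_le.2 ?_
    rintro _ ⟨x, hx, rfl⟩
    induction k with
    | zero => exact hx
    | succ k ih => rw [Function.iterate_succ_apply']; exact hσ _ ih
  have hσJ : ∀ k, ∀ x ∈ J k, σ x ∈ J (k + 1) := fun k x hx => by
    have := Ideal.mem_map_of_mem σ hx
    rw [Ideal.map_span, ← Set.image_comp, ← Function.iterate_succ'] at this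
    exact this
  have hF : ∀ k, ∀ y ∈ J k • (⊤ : Submodule W P₂), F₂ y ∈ J (k + 1) • (⊤ : Submodule W P₂) := by
    intro k y hy
    refine Submodule.smul_induction_on hy (fun r hr z _ => ?_) fun y z hy hz => ?_
    · rw [map_smulₛₗ]
      exact Submodule.smul_mem_smul (hσJ k r hr) Submodule.mem_top
    · rw [map_add]; exact add_mem hy hz
  have hTk : ∀ k (α β : P₁ →ₗ[W] P₂), (∀ x, α x - β x ∈ J k • (⊤ : Submodule W P₂)) →
      ∀ x, T α x - T β x ∈ J (k + 1) • (⊤ : Submodule W P₂) := by
    intro k α β h x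
    rw [← LinearMap.sub_apply]
    have hx : x ∈ Submodule.span W (Set.range fun i => F₁ (b i)) := hsp ▸ Submodule.mem_top
    induction hx using Submodule.span_induction with
    | mem y hy =>
      obtain ⟨i, rfl⟩ := hy
      rw [LinearMap.sub_apply, hT, hT, ← map_sub]
      exact hF k _ (h (b i))
    | zero => simp
    | add y z _ _ hy hz => rw [map_add]; exact add_mem hy hz
    | smul r y _ hy => rw [map_smul]; exact Submodule.smul_mem _ r hy
  have hfix : ∀ α : P₁ →ₗ[W] P₂, (∀ x, F₂ (α x) = α (F₁ x)) ↔ T α = α := by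
    intro α
    constructor
    · intro h
      refine c.ext fun i => ?_
      rw [Module.Basis.mk_apply, hT, h]
    · intro h x
      have hx : x ∈ Submodule.span W (Set.range b) := b.span_eq ▸ Submodule.mem_top
      induction hx using Submodule.span_induction with
      | mem y hy =>
        obtain ⟨i, rfl⟩ := hy
        rw [← hT α i, h]
      | zero => simp
      | add y z _ _ hy hz => simp only [map_add, hy, hz]
      | smul r y _ hy => simp only [map_smulₛₗ, map_smul, hy]; simp
  have hJK : J K = ⊥ := Ideal.span_eq_bot.2 (by rintro _ ⟨x, hx, rfl⟩; exact hK x hx)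
  have hJ0 : ∀ y ∈ 𝔠 • (⊤ : Submodule W P₂), y ∈ J 0 • (⊤ : Submodule W P₂) :=
    fun y hy => Submodule.smul_mono_left (show 𝔠 ≤ J 0 from fun x hx => Ideal.subset_span ⟨x, hx, rfl⟩) hy
  have hTα₀ : ∀ x, T α₀ x - α₀ x ∈ 𝔠 • (⊤ : Submodule W P₂) := by
    intro x
    have hx : x ∈ Submodule.span W (Set.range fun i => F₁ (b i)) := hsp ▸ Submodule.mem_top
    rw [← LinearMap.sub_apply]
    induction hx using Submodule.span_induction with
    | mem y hy =>
      obtain ⟨i, rfl⟩ := hy
      rw [LinearMap.sub_apply, hT]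
      exact hα₀ (b i)
    | zero => simp
    | add y z _ _ hy hz => rw [map_add]; exact add_mem hy hz
    | smul r y _ hy => rw [map_smul]; exact Submodule.smul_mem _ r hy
  have hstep : ∀ k, ∀ x, (T^[k + 1] α₀) x - (T^[k] α₀) x ∈ J k • (⊤ : Submodule W P₂) := by
    intro k
    induction k with
    | zero => exact fun x => hJ0 _ (hTα₀ x)
    | succ k ih =>
      intro x
      rw [Function.iterate_succ_apply' T (k + 1), Function.iterate_succ_apply' T k]
      refine hTk k _ _ (fun y => ?_) x
      have := ih y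
      rwa [Function.iterate_succ_apply'] at this
  have hdist : ∀ k, ∀ x, (T^[k] α₀) x - α₀ x ∈ 𝔠 • (⊤ : Submodule W P₂) := by
    intro k
    induction k with
    | zero => intro x; simp
    | succ k ih =>
      intro x
      have := add_mem (Submodule.smul_mono_left (hJ k) (hstep k x)) (ih x)
      rwa [sub_add_sub_cancel] at this
  refine ⟨T^[K] α₀, ⟨hdist K, (hfix _).2 (LinearMap.ext fun x => ?_)⟩, ?_⟩
  · have := hstep K x
    rw [hJK, Submodule.bot_smul, Submodule.mem_bot, sub_eq_zero, Function.iterate_succ_apply'] at this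
    exact this
  · rintro β ⟨hβ, hβF⟩
    have hcl : ∀ k, ∀ x, β x - (T^[k] α₀) x ∈ J k • (⊤ : Submodule W P₂) := by
      intro k
      induction k with
      | zero => exact fun x => hJ0 _ (hβ x)
      | succ k ih =>
        intro x
        rw [Function.iterate_succ_apply', ← (hfix β).1 hβF]
        exact hTk k _ _ ih x
    refine LinearMap.ext fun x => sub_eq_zero.1 ?_
    simpa [hJK] using hcl K x

end Lift

end GrothLib.WittNil
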